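import Mathlib
import Cfsg.Prelude.Def_Transfer
import Cfsg.Agent.S0016

/-! # Groups in which subgroups of prime power order with equal order are conjugate -/

open scoped Pointwise

namespace CfsgLib.GrossEq

variable {G : Type*} [Group G]

/-- The hypothesis at a fixed prime. -/
def EqOrderConj (p : ℕ) (G : Type*) [Group G] : Prop :=
  ∀ H K : Subgroup G, IsPGroup p H → IsPGroup p K → Nat.card H = Nat.card K →
    ∃ g : G, K = H.map (MulAut.conj g).toMonoidHom

variable {p : ℕ}

theorem iso_of_card (hD : EqOrderConj p G) {P : Subgroup G} (hP : IsPGroup p P) (H K : Subgroup P)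
    (h : Nat.card H = Nat.card K) : Nonempty (H ≃* K) := by
  have hi : Function.Injective P.subtype := Subtype.val_injective
  obtain ⟨g, hg⟩ := hD (H.map P.subtype) (K.map P.subtype)
    (((hP.to_subgroup H)).map P.subtype) (((hP.to_subgroup K)).map P.subtype)
    (by rw [Subgroup.card_map_of_injective hi, Subgroup.card_map_of_injective hi, h])
  exact ⟨((H.equivMapOfInjective _ hi).trans
    ((H.map P.subtype).equivMapOfInjective _ (MulAut.conj g).injective)).trans
    ((MulEquiv.subgroupCongr hg.symm).trans (K.equivMapOfInjective _ hi).symm)⟩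

theorem pow_eq_one_of_iso {H K : Type*} [Group H] [Group K] (e : H ≃* K) {n : ℕ}
    (h : ∀ a : H, a ^ n = 1) (b : K) : b ^ n = 1 := by
  have := congrArg e (h (e.symm b))
  simpa using this

theorem comm_of_iso {H K : Type*} [Group H] [Group K] (e : H ≃* K)
    (h : ∀ a b : H, a * b = b * a) (a b : K) : a * b = b * a := by
  have := congrArg e (h (e.symm a) (e.symm b))
  simpa using this


theorem quaternion_not_uniform (n : ℕ) (hn : 2 ≤ n) :
    ∃ H K : Subgroup (QuaternionGroup (2 ^ n)), Nat.card H = Nat.card K ∧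
      (∀ a b : H, a * b = b * a) ∧ ∃ a b : K, a * b ≠ b * a := by
  have h2 : (2 : ℕ) ∣ 2 * 2 ^ n := dvd_mul_right _ _
  let π : ZMod (2 * 2 ^ n) →+* ZMod 2 := ZMod.castHom h2 (ZMod 2)
  let par : QuaternionGroup (2 ^ n) → ZMod 2 := fun q => match q with
    | .a i => π i
    | .xa i => π i
  have hN : π ((2 ^ n : ℕ) : ZMod (2 * 2 ^ n)) = 0 := by
    rw [map_natCast, ZMod.natCast_eq_zero_iff_even]
    exact Nat.even_pow.2 ⟨even_two, by omega⟩
  have hneg : ∀ i : ZMod 2, -i = i := by decide
  have h10 : par 1 = 0 := map_zero π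
  have hmul : ∀ s t, par (s * t) = par s + par t := by
    have hh : ∀ i j : ZMod 2, j - i = i + j := by decide
    have hh2 : ∀ i j : ZMod 2, i - j = i + j := by decide
    rintro (i | i) (j | j) <;>
      simp only [par, QuaternionGroup.a_mul_a, QuaternionGroup.a_mul_xa, QuaternionGroup.xa_mul_a,
        QuaternionGroup.xa_mul_xa, map_add, map_sub]
    · exact hh _ _
    · rw [hN, zero_add]; exact hh _ _
  have hinv : ∀ s, par s⁻¹ = par s := by
    intro s
    have h := hmul s s⁻¹
    rw [mul_inv_cancel] at h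
    rw [h10] at h
    have hh : ∀ i j : ZMod 2, 0 = i + j → j = i := by decide
    exact hh _ _ h
  let M : Subgroup (QuaternionGroup (2 ^ n)) :=
    { carrier := {q | par q = 0}
      one_mem' := h10
      mul_mem' := by
        intro a b ha hb
        simp only [Set.mem_setOf_eq] at *
        rw [hmul, ha, hb, add_zero]
      inv_mem' := by
        intro a ha
        simp only [Set.mem_setOf_eq] at *
        rw [hinv, ha] }
  have hidx : M.index = 2 := by
    rw [Subgroup.index_eq_two_iff]
    refine ⟨QuaternionGroup.a 1, fun b => ?_⟩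
    show Xor' (par (b * QuaternionGroup.a 1) = 0) (par b = 0)
    rw [hmul]
    have h1 : par (QuaternionGroup.a 1) = 1 := by simp [par]
    rw [h1]
    have hh : ∀ i : ZMod 2, Xor' (i + 1 = 0) (i = 0) := by
      unfold Xor'; decide
    exact hh _
  haveI : NeZero (2 ^ n) := ⟨by positivity⟩
  refine ⟨Subgroup.zpowers (QuaternionGroup.a 1), M, ?_, ?_, ?_⟩
  · rw [Nat.card_zpowers, QuaternionGroup.orderOf_a_one]
    have := M.card_mul_index
    rw [hidx, Nat.card_eq_fintype_card (α := QuaternionGroup (2 ^ n)), QuaternionGroup.card] at this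
    omega
  · rintro ⟨a, i, rfl⟩ ⟨b, j, rfl⟩
    exact Subtype.ext ((Commute.refl (QuaternionGroup.a (1 : ZMod (2 * 2 ^ n)))).zpow_zpow i j)
  · refine ⟨⟨QuaternionGroup.a 2, ?_⟩, ⟨QuaternionGroup.xa 0, ?_⟩, ?_⟩
    · show par (QuaternionGroup.a 2) = 0
      show π 2 = 0
      rw [show (2 : ZMod (2 * 2 ^ n)) = ((2 : ℕ) : ZMod (2 * 2 ^ n)) by norm_num, map_natCast]
      decide
    · show par (QuaternionGroup.xa 0) = 0
      exact map_zero π
    · intro h
      have h' : (QuaternionGroup.a 2 : QuaternionGroup (2 ^ n)) * QuaternionGroup.xa 0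
          = QuaternionGroup.xa 0 * QuaternionGroup.a 2 := congrArg Subtype.val h
      simp only [QuaternionGroup.a_mul_xa, QuaternionGroup.xa_mul_a,
        QuaternionGroup.xa.injEq, zero_sub, zero_add] at h'
      have h4 : ((4 : ℕ) : ZMod (2 * 2 ^ n)) = 0 := by
        push_cast
        linear_combination -h'
      have hd := Nat.le_of_dvd (by norm_num) ((ZMod.natCast_eq_zero_iff _ _).1 h4)
      have : 2 ^ 2 ≤ 2 ^ n := Nat.pow_le_pow_right (by norm_num) hn
      omega

/-- Local structure of a Sylow subgroup. -/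
theorem cyclic_or_exponent_or_quaternion [Finite G] [Fact p.Prime] (hD : EqOrderConj p G)
    (P : Sylow p G) : IsCyclic P ∨ (∀ a : (P : Subgroup G), a ^ p = 1) ∨
      (p = 2 ∧ Nonempty ((P : Subgroup G) ≃* QuaternionGroup 2)) := by
  have hiso := fun H K h => iso_of_card hD P.isPGroup' H K h
  by_cases huniq : ∀ H K : Subgroup (P : Subgroup G), Nat.card H = p → Nat.card K = p → H = K
  · rcases Cfsg.Agent.S0016.result p P.isPGroup' huniq with hc | ⟨hp2, n, ⟨e⟩⟩
    · exact Or.inl hc
    · obtain rfl | rfl | hn : n = 0 ∨ n = 1 ∨ 2 ≤ n := by omega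
      · refine Or.inl ?_
        haveI : IsCyclic (QuaternionGroup (2 ^ 0)) :=
          QuaternionGroup.quaternionGroup_one_isCyclic
        exact isCyclic_of_surjective e.symm e.symm.surjective
      · exact Or.inr (Or.inr ⟨hp2, ⟨e⟩⟩)
      · exfalso
        obtain ⟨H, K, hc, hH, a, b, hab⟩ := quaternion_not_uniform n hn
        have hi : Function.Injective e.symm.toMonoidHom := e.symm.injective
        obtain ⟨f⟩ := hiso (H.map e.symm.toMonoidHom) (K.map e.symm.toMonoidHom)
          (by rw [Subgroup.card_map_of_injective hi, Subgroup.card_map_of_injective hi, hc])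
        exact hab (comm_of_iso (((H.equivMapOfInjective _ hi).trans f).trans
          (K.equivMapOfInjective _ hi).symm) hH a b)
  · refine Or.inr (Or.inl ?_)
    push_neg at huniq
    obtain ⟨H, K, hH, hK, hHK⟩ := huniq
    have hp : p.Prime := Fact.out
    haveI : Nontrivial (P : Subgroup G) := by
      by_contra hnt
      rw [not_nontrivial_iff_subsingleton] at hnt
      exact hHK (Subsingleton.elim _ _)
    haveI := P.isPGroup'.center_nontrivial
    obtain ⟨z, hz⟩ := exists_prime_orderOf_dvd_card' p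
      (show p ∣ Nat.card (Subgroup.center (P : Subgroup G)) by
        obtain ⟨k, hk0, hk⟩ := (P.isPGroup'.to_subgroup _).nontrivial_iff_card.1 this
        rw [hk]; exact dvd_pow_self p (by omega))
    have hz' : orderOf (z : (P : Subgroup G)) = p := by rw [Subgroup.orderOf_coe, hz]
    set Z := Subgroup.zpowers (z : (P : Subgroup G)) with hZ
    have hZc : Nat.card Z = p := by rw [Nat.card_zpowers, hz']
    obtain ⟨X, hX, hXZ⟩ : ∃ X : Subgroup (P : Subgroup G), Nat.card X = p ∧ X ≠ Z := by
      by_cases h : H = Z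
      · exact ⟨K, hK, fun h' => hHK (h.trans h'.symm)⟩
      · exact ⟨H, hH, h⟩
    have hpowX : ∀ a ∈ X, a ^ p = 1 := fun a ha => by
      have : (⟨a, ha⟩ : X) ^ Nat.card X = 1 := pow_card_eq_one'
      rw [hX] at this
      exact congrArg Subtype.val this
    have hpowZ : ∀ a ∈ Z, a ^ p = 1 := fun a ha => by
      have : (⟨a, ha⟩ : Z) ^ Nat.card Z = 1 := pow_card_eq_one'
      rw [hZc] at this
      exact congrArg Subtype.val this
    haveI hZn : Z.Normal := by
      constructor
      intro a ha g
      obtain ⟨i, rfl⟩ := Subgroup.mem_zpowers_iff.1 ha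
      have hcom : Commute g ((z : (P : Subgroup G)) ^ i) :=
        Commute.zpow_right (Subgroup.mem_center_iff.1 z.2 g) i
      rw [hcom.eq, mul_inv_cancel_right]
      exact ha
    have hdisj : Disjoint X Z := by
      rw [disjoint_iff]
      have hdvd : Nat.card (X ⊓ Z : Subgroup (P : Subgroup G)) ∣ p := by
        have := Subgroup.card_dvd_of_le (inf_le_left : X ⊓ Z ≤ X)
        rwa [hX] at this
      rcases hp.eq_one_or_self_of_dvd _ hdvd with h | h
      · exact Subgroup.card_eq_one.1 h
      · exfalso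
        have h1 : X ⊓ Z = X := Subgroup.eq_of_le_of_card_ge inf_le_left (by omega)
        have h2 : X ⊓ Z = Z := Subgroup.eq_of_le_of_card_ge inf_le_right (by omega)
        exact hXZ (h1.symm.trans h2)
    have hEc : Nat.card (X ⊔ Z : Subgroup (P : Subgroup G)) = p ^ 2 := by
      have hset : ((X ⊔ Z : Subgroup (P : Subgroup G)) : Set (P : Subgroup G)) =
          (X : Set (P : Subgroup G)) * (Z : Set (P : Subgroup G)) := Subgroup.mul_normal X Z
      rw [show Nat.card (X ⊔ Z : Subgroup (P : Subgroup G)) =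
        Nat.card ((X : Set (P : Subgroup G)) * (Z : Set (P : Subgroup G)) : Set (P : Subgroup G)) by
          rw [← hset]; rfl]
      rw [sq, ← show Nat.card X * Nat.card Z = p * p by rw [hX, hZc], ← Nat.card_prod]
      refine (Nat.card_eq_of_bijective
        (fun q : X × Z => (⟨(q.1 : (P : Subgroup G)) * q.2, q.1.1, q.1.2, q.2.1, q.2.2, rfl⟩ :
          ((X : Set (P : Subgroup G)) * (Z : Set (P : Subgroup G)) : Set (P : Subgroup G))))
        ⟨fun q r h => ?_, ?_⟩).symm
      · exact Subgroup.mul_injective_of_disjoint hdisj (congrArg Subtype.val h)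
      · rintro ⟨_, a, ha, b, hb, rfl⟩
        exact ⟨(⟨a, ha⟩, ⟨b, hb⟩), rfl⟩
    have hEpow : ∀ q : (X ⊔ Z : Subgroup (P : Subgroup G)), q ^ p = 1 := by
      rintro ⟨q, hq⟩
      have hq' : q ∈ (X : Set (P : Subgroup G)) * (Z : Set (P : Subgroup G)) := by
        rw [← Subgroup.mul_normal]; exact hq
      obtain ⟨a, ha, b, hb, rfl⟩ := hq'
      obtain ⟨i, rfl⟩ := Subgroup.mem_zpowers_iff.1 hb
      have hcom : Commute a ((z : (P : Subgroup G)) ^ i) :=
        Commute.zpow_right (Subgroup.mem_center_iff.1 z.2 a) i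
      apply Subtype.ext
      show (a * (z : (P : Subgroup G)) ^ i) ^ p = 1
      rw [hcom.mul_pow, hpowX a ha, hpowZ _ hb, one_mul]
    intro a
    by_contra ha
    obtain ⟨k, hk⟩ := IsPGroup.iff_orderOf.1 P.isPGroup' a
    have hk2 : 2 ≤ k := by
      by_contra h
      apply ha
      apply orderOf_dvd_iff_pow_eq_one.1
      rw [hk]
      exact (pow_dvd_pow p (show k ≤ 1 by omega)).trans (by rw [pow_one])
    set b := a ^ p ^ (k - 2) with hb
    have hbo : orderOf b = p ^ 2 := by
      rw [hb, orderOf_pow_of_dvd (pow_ne_zero _ hp.ne_zero) (hk ▸ pow_dvd_pow p (by omega)), hk,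
        Nat.pow_div (by omega) hp.pos]
      congr 1
      omega
    obtain ⟨f⟩ := hiso (X ⊔ Z) (Subgroup.zpowers b) (by rw [hEc, Nat.card_zpowers, hbo])
    have := pow_eq_one_of_iso f hEpow ⟨b, Subgroup.mem_zpowers b⟩
    have hbp : b ^ p = 1 := congrArg Subtype.val this
    have hd := orderOf_dvd_of_pow_eq_one hbp
    rw [hbo] at hd
    have := Nat.le_of_dvd hp.pos hd
    have h2 := hp.two_le
    nlinarith

/-- In the exponent `p` case a noncommutative Sylow subgroup has order `p ^ 3`. -/
theorem card_of_noncomm [Finite G] [Fact p.Prime] (hD : EqOrderConj p G)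
    (P : Sylow p G) (hexp : ∀ a : (P : Subgroup G), a ^ p = 1)
    (hnc : ∃ a b : (P : Subgroup G), a * b ≠ b * a) : Nat.card (P : Subgroup G) = p ^ 3 := by
  have hp : p.Prime := Fact.out
  have hiso := fun H K h => iso_of_card hD P.isPGroup' H K h
  obtain ⟨n, hn⟩ := IsPGroup.iff_card.1 P.isPGroup'
  have hncomm : ∀ H : Subgroup (P : Subgroup G), H = ⊤ → ¬ ∀ a b : H, a * b = b * a := by
    rintro H rfl h
    obtain ⟨a, b, hab⟩ := hnc
    exact hab (congrArg Subtype.val (h ⟨a, trivial⟩ ⟨b, trivial⟩))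
  rcases le_or_gt n 2 with hn2 | hn2
  · exfalso
    apply hncomm ⊤ rfl
    intro a b
    apply Subtype.ext
    show (a : (P : Subgroup G)) * b = b * a
    obtain rfl | rfl | rfl : n = 0 ∨ n = 1 ∨ n = 2 := by omega
    · haveI : Subsingleton (P : Subgroup G) :=
        (Nat.card_eq_one_iff_unique.1 (by simpa using hn)).1
      exact Subsingleton.elim _ _
    · haveI : IsCyclic (P : Subgroup G) := isCyclic_of_prime_card (p := p) (by simpa using hn)
      exact (IsCyclic.commGroup (α := (P : Subgroup G))).mul_comm _ _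
    · exact (IsPGroup.commGroupOfCardEqPrimeSq hn).mul_comm _ _
  rcases eq_or_lt_of_le (show 3 ≤ n by omega) with h3 | h4
  · rw [hn, ← h3]
  exfalso
  -- an element `w` and a central element `z` spanning `p ^ 2`, with large centralizer
  haveI : Nontrivial (P : Subgroup G) := by
    rw [← Finite.one_lt_card_iff_nontrivial, hn]
    exact Nat.one_lt_pow (by omega) hp.one_lt
  haveI hct := P.isPGroup'.center_nontrivial
  have hcd : p ∣ Nat.card (Subgroup.center (P : Subgroup G)) := by
    obtain ⟨k, hk0, hk⟩ := (P.isPGroup'.to_subgroup _).nontrivial_iff_card.1 hct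
    rw [hk]; exact dvd_pow_self p (by omega)
  have key : ∃ (K : Subgroup (P : Subgroup G)) (C : Subgroup (P : Subgroup G)), K ≤ C ∧
      (∀ k ∈ K, ∀ c ∈ C, k * c = c * k) ∧ Nat.card K = p ^ 2 ∧ p ^ 3 ∣ Nat.card C := by
    obtain ⟨k, hk⟩ := IsPGroup.iff_card.1 (P.isPGroup'.to_subgroup (Subgroup.center (P : Subgroup G)))
    rcases le_or_gt 2 k with hk2 | hk1
    · obtain ⟨K, hKc, hK⟩ : ∃ K : Subgroup (P : Subgroup G), K ≤ Subgroup.center (P : Subgroup G) ∧
          Nat.card K = p ^ 2 := by
        obtain ⟨K', hK'⟩ := Sylow.exists_subgroup_card_pow_prime p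
          (show p ^ 2 ∣ Nat.card (Subgroup.center (P : Subgroup G)) by rw [hk]; exact pow_dvd_pow p hk2)
        refine ⟨K'.map (Subgroup.subtype _), Subgroup.map_subtype_le _, ?_⟩
        rw [Subgroup.card_map_of_injective Subtype.val_injective, hK']
      refine ⟨K, ⊤, le_top, fun a ha c _ => (Subgroup.mem_center_iff.1 (hKc ha) c).symm, hK, ?_⟩
      rw [Subgroup.card_top, hn]; exact pow_dvd_pow p (by omega)
    · have hZc : Nat.card (Subgroup.center (P : Subgroup G)) = p := by
        obtain rfl | rfl : k = 0 ∨ k = 1 := by omega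
        · rw [hk, pow_zero] at hcd; exact absurd (Nat.dvd_one.1 hcd) hp.ne_one
        · simpa using hk
      set Zc := Subgroup.center (P : Subgroup G) with hZcdef
      have hQ : IsPGroup p ((P : Subgroup G) ⧸ Zc) := P.isPGroup'.to_quotient _
      haveI : Nontrivial ((P : Subgroup G) ⧸ Zc) := by
        rw [← Finite.one_lt_card_iff_nontrivial]
        have := Zc.card_eq_card_quotient_mul_card_subgroup
        rw [hn, hZc] at this
        have h1 : p ^ n = p ^ (n - 1) * p := by rw [← pow_succ]; congr 1; omega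
        rw [h1] at this
        rw [← Nat.eq_of_mul_eq_mul_right hp.pos this]
        exact Nat.one_lt_pow (by omega) hp.one_lt
      haveI := hQ.center_nontrivial
      obtain ⟨wq, hwq⟩ := exists_ne (1 : Subgroup.center ((P : Subgroup G) ⧸ Zc))
      obtain ⟨w, hw⟩ := QuotientGroup.mk_surjective (wq : (P : Subgroup G) ⧸ Zc)
      have hwZ : w ∉ Zc := fun h => hwq (Subtype.ext (by
        rw [← hw]; simpa using (QuotientGroup.eq_one_iff w).2 h))
      have hcomm : ∀ h : (P : Subgroup G), h * w * h⁻¹ * w⁻¹ ∈ Zc := by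
        intro h
        rw [← QuotientGroup.eq_one_iff]
        have := Subgroup.mem_center_iff.1 wq.2 (h : (P : Subgroup G) ⧸ Zc)
        rw [← hw] at this
        simp only [QuotientGroup.mk_mul, QuotientGroup.mk_inv]
        rw [this, mul_inv_cancel_right, mul_inv_cancel]
      -- the commutator map
      let φ : (P : Subgroup G) →* Zc :=
        { toFun := fun h => ⟨h * w * h⁻¹ * w⁻¹, hcomm h⟩
          map_one' := Subtype.ext (by simp)
          map_mul' := fun a b => Subtype.ext (by
            show a * b * w * (a * b)⁻¹ * w⁻¹ = (a * w * a⁻¹ * w⁻¹) * (b * w * b⁻¹ * w⁻¹)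
            have hb := Subgroup.mem_center_iff.1 (hcomm b) a
            calc a * b * w * (a * b)⁻¹ * w⁻¹ = a * (b * w * b⁻¹ * w⁻¹) * (w * a⁻¹ * w⁻¹) := by group
              _ = (b * w * b⁻¹ * w⁻¹) * a * (w * a⁻¹ * w⁻¹) := by rw [hb]
              _ = (b * w * b⁻¹ * w⁻¹) * (a * w * a⁻¹ * w⁻¹) := by group
              _ = (a * w * a⁻¹ * w⁻¹) * (b * w * b⁻¹ * w⁻¹) :=
                (Subgroup.mem_center_iff.1 (hcomm b) _).symm) }
      set K := Zc ⊔ Subgroup.zpowers w with hKdef
      have hwker : w ∈ φ.ker := by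
        rw [MonoidHom.mem_ker]; exact Subtype.ext (show w * w * w⁻¹ * w⁻¹ = 1 by group)
      have hzker : Zc ≤ φ.ker := fun a ha => by
        rw [MonoidHom.mem_ker]
        refine Subtype.ext (show a * w * a⁻¹ * w⁻¹ = 1 from ?_)
        rw [← Subgroup.mem_center_iff.1 ha w]; group
      have hKk : K ≤ φ.ker := sup_le hzker (by simpa using hwker)
      have hKw : ∀ k ∈ K, ∀ c ∈ φ.ker, k * c = c * k := by
        intro k hk c hc
        have hcw : c * w = w * c := by
          rw [MonoidHom.mem_ker] at hc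
          have h1 : c * w * c⁻¹ * w⁻¹ = 1 := congrArg Subtype.val hc
          rw [mul_inv_eq_one, mul_inv_eq_iff_eq_mul] at h1
          exact h1
        have hle : K ≤ Subgroup.centralizer {c} := sup_le
          (fun a ha => Subgroup.mem_centralizer_singleton_iff.2 (Subgroup.mem_center_iff.1 ha c).symm)
          (by simpa [Subgroup.mem_centralizer_singleton_iff] using hcw.symm)
        exact Subgroup.mem_centralizer_singleton_iff.1 (hle hk)
      refine ⟨K, φ.ker, hKk, hKw, ?_, ?_⟩
      · have hwo : Nat.card (Subgroup.zpowers w) = p := by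
          rw [Nat.card_zpowers]
          exact orderOf_eq_prime (hexp w) (fun h => hwZ (h ▸ Zc.one_mem))
        have hdisj : Disjoint Zc (Subgroup.zpowers w) := by
          rw [disjoint_iff]
          have hdvd : Nat.card (Zc ⊓ Subgroup.zpowers w : Subgroup (P : Subgroup G)) ∣ p :=
            by have := Subgroup.card_dvd_of_le (inf_le_right : Zc ⊓ Subgroup.zpowers w ≤ Subgroup.zpowers w); rwa [hwo] at this
          rcases hp.eq_one_or_self_of_dvd _ hdvd with h | h
          · exact Subgroup.card_eq_one.1 h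
          · exfalso
            have h2 : Zc ⊓ Subgroup.zpowers w = Subgroup.zpowers w :=
              Subgroup.eq_of_le_of_card_ge inf_le_right (by omega)
            exact hwZ ((h2 ▸ inf_le_left : Subgroup.zpowers w ≤ Zc) (Subgroup.mem_zpowers w))
        have hset : ((K : Subgroup (P : Subgroup G)) : Set (P : Subgroup G)) =
            (Zc : Set (P : Subgroup G)) * (Subgroup.zpowers w : Set (P : Subgroup G)) :=
          Subgroup.normal_mul Zc (Subgroup.zpowers w)
        rw [show Nat.card K = Nat.card ((Zc : Set (P : Subgroup G)) *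
          (Subgroup.zpowers w : Set (P : Subgroup G)) : Set (P : Subgroup G)) by rw [← hset]; rfl,
          sq, ← show Nat.card Zc * Nat.card (Subgroup.zpowers w) = p * p by rw [hZc, hwo],
          ← Nat.card_prod]
        refine (Nat.card_eq_of_bijective
          (fun q : Zc × Subgroup.zpowers w => (⟨(q.1 : (P : Subgroup G)) * q.2, q.1.1, q.1.2,
            q.2.1, q.2.2, rfl⟩ : ((Zc : Set (P : Subgroup G)) *
              (Subgroup.zpowers w : Set (P : Subgroup G)) : Set (P : Subgroup G))))
          ⟨fun q r h => ?_, ?_⟩).symm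
        · exact Subgroup.mul_injective_of_disjoint hdisj (congrArg Subtype.val h)
        · rintro ⟨_, a, ha, b, hb, rfl⟩
          exact ⟨(⟨a, ha⟩, ⟨b, hb⟩), rfl⟩
      · have h1 := φ.ker.card_mul_index
        have h2 : φ.ker.index ∣ p := by
          rw [Subgroup.index_ker]
          have := Subgroup.card_subgroup_dvd_card φ.range
          rwa [hZc] at this
        obtain ⟨j, hj⟩ := IsPGroup.iff_card.1 (P.isPGroup'.to_subgroup φ.ker)
        rw [hn] at h1
        rw [hj]
        apply pow_dvd_pow
        by_contra hlt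
        rw [hj] at h1
        have hle : p ^ n ≤ p ^ j * p := h1 ▸ Nat.mul_le_mul_left (p ^ j) (Nat.le_of_dvd hp.pos h2)
        rw [← pow_succ] at hle
        have := (Nat.pow_le_pow_iff_right hp.one_lt).1 hle
        omega
  obtain ⟨K, C, hKC, hKcom, hK, hC⟩ := key
  obtain ⟨S, hS, hKS, hSC⟩ : ∃ S : Subgroup (P : Subgroup G), Nat.card S = p ^ 3 ∧ K ≤ S ∧ S ≤ C := by
    obtain ⟨S, hS, hle⟩ := Sylow.exists_subgroup_card_pow_succ (G := C) (p := p) (n := 2)
      (by simpa using hC) (H := K.subgroupOf C)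
      (by rw [Nat.card_congr (Subgroup.subgroupOfEquivOfLe hKC).toEquiv, hK])
    refine ⟨S.map C.subtype, ?_, ?_, Subgroup.map_subtype_le _⟩
    · rw [Subgroup.card_map_of_injective Subtype.val_injective, hS]
    · intro k hk
      exact ⟨⟨k, hKC hk⟩, hle (Subgroup.mem_subgroupOf.2 hk), rfl⟩
  have hScomm : ∀ a b : S, a * b = b * a := by
    have hKle : K.subgroupOf S ≤ Subgroup.center S := by
      intro k hk
      rw [Subgroup.mem_center_iff]
      intro s
      exact Subtype.ext ((hKcom _ (Subgroup.mem_subgroupOf.1 hk) _ (hSC s.2)).symm)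
    have hKS' : Nat.card (K.subgroupOf S) = p ^ 2 := by
      rw [Nat.card_congr (Subgroup.subgroupOfEquivOfLe hKS).toEquiv, hK]
    have hidx : (Subgroup.center S).index ∣ p := by
      have h1 := (K.subgroupOf S).card_mul_index
      rw [hKS', hS, pow_succ p 2] at h1
      have h2 := Nat.eq_of_mul_eq_mul_left (pow_pos hp.pos 2) h1
      have h3 := Subgroup.index_dvd_of_le hKle
      rwa [h2] at h3
    haveI : IsCyclic (S ⧸ Subgroup.center S) := by
      rcases hp.eq_one_or_self_of_dvd _ hidx with h | h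
      · haveI : Subsingleton (S ⧸ Subgroup.center S) :=
          (Nat.card_eq_one_iff_unique.1 (by rw [← Subgroup.index_eq_card]; exact h)).1
        exact isCyclic_of_subsingleton
      · exact isCyclic_of_prime_card (p := p) (by rw [← Subgroup.index_eq_card]; exact h)
    exact fun a b => commutative_of_cyclic_center_quotient (QuotientGroup.mk' (Subgroup.center S))
      (by rw [QuotientGroup.ker_mk']) a b
  have hall : ∀ T : Subgroup (P : Subgroup G), Nat.card T = p ^ 3 → ∀ a b : T, a * b = b * a := by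
    intro T hT
    obtain ⟨f⟩ := hiso S T (by rw [hS, hT])
    exact comm_of_iso f hScomm
  -- second centre against an element
  set Zc := Subgroup.center (P : Subgroup G) with hZcdef
  haveI : Nontrivial ((P : Subgroup G) ⧸ Zc) := by
    by_contra h
    rw [not_nontrivial_iff_subsingleton] at h
    obtain ⟨a, b, hab⟩ := hnc
    have : a ∈ Zc := (QuotientGroup.eq_one_iff a).1 (Subsingleton.elim _ _)
    exact hab ((Subgroup.mem_center_iff.1 this b).symm)
  haveI := (P.isPGroup'.to_quotient Zc).center_nontrivial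
  obtain ⟨wq, hwq⟩ := exists_ne (1 : Subgroup.center ((P : Subgroup G) ⧸ Zc))
  obtain ⟨w, hw⟩ := QuotientGroup.mk_surjective (wq : (P : Subgroup G) ⧸ Zc)
  have hwZ : w ∉ Zc := fun h => hwq (Subtype.ext (by
    rw [← hw]; simpa using (QuotientGroup.eq_one_iff w).2 h))
  have hy' : ∃ y, y * w ≠ w * y := by
    by_contra h
    push_neg at h
    exact hwZ (Subgroup.mem_center_iff.2 h)
  obtain ⟨y, hy⟩ := hy'
  set c := y * w * y⁻¹ * w⁻¹ with hcdef
  have hc : c ∈ Zc := by
    rw [← QuotientGroup.eq_one_iff]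
    have := Subgroup.mem_center_iff.1 wq.2 (y : (P : Subgroup G) ⧸ Zc)
    rw [← hw] at this
    simp only [hcdef, QuotientGroup.mk_mul, QuotientGroup.mk_inv]
    rw [this, mul_inv_cancel_right, mul_inv_cancel]
  set L := Subgroup.zpowers c ⊔ Subgroup.zpowers w with hL
  haveI : (Subgroup.zpowers c).Normal := ⟨fun a ha g => by
    obtain ⟨i, rfl⟩ := Subgroup.mem_zpowers_iff.1 ha
    rw [Subgroup.mem_center_iff.1 (Zc.zpow_mem hc i) g, mul_inv_cancel_right]; exact ha⟩
  have hyL : y ∈ Subgroup.normalizer (L : Set (P : Subgroup G)) := by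
    have hmap : ∀ g : (P : Subgroup G), (g = y ∨ g = y⁻¹) → ∀ a ∈ L, g * a * g⁻¹ ∈ L := by
      intro g hg
      have hle : L ≤ L.comap (MulAut.conj g).toMonoidHom := by
        refine sup_le (Subgroup.zpowers_le.2 ?_) (Subgroup.zpowers_le.2 ?_)
        · show g * c * g⁻¹ ∈ L
          rw [Subgroup.mem_center_iff.1 hc g, mul_inv_cancel_right]
          exact Subgroup.mem_sup_left (Subgroup.mem_zpowers c)
        · show g * w * g⁻¹ ∈ L
          rcases hg with rfl | rfl
          · rw [show g * w * g⁻¹ = c * w by rw [hcdef]; group]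
            exact L.mul_mem (Subgroup.mem_sup_left (Subgroup.mem_zpowers c))
              (Subgroup.mem_sup_right (Subgroup.mem_zpowers w))
          · have hyw : y * w * y⁻¹ = c * w := by rw [hcdef]; group
            have hcy : y⁻¹ * c⁻¹ * y = c⁻¹ := by
              rw [Subgroup.mem_center_iff.1 (Zc.inv_mem hc) y⁻¹, inv_mul_cancel_right]
            rw [show y⁻¹ * w * y⁻¹⁻¹ = (y⁻¹ * c⁻¹ * y) * (y⁻¹ * (c * w) * y) by group, hcy,
              show y⁻¹ * (c * w) * y = w by rw [← hyw]; group]
            exact L.mul_mem (L.inv_mem (Subgroup.mem_sup_left (Subgroup.mem_zpowers c)))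
              (Subgroup.mem_sup_right (Subgroup.mem_zpowers w))
      exact fun a ha => hle ha
    rw [Subgroup.mem_normalizer_iff]
    intro a
    refine ⟨hmap y (Or.inl rfl) a, fun h => ?_⟩
    have := hmap y⁻¹ (Or.inr rfl) _ h
    simpa [mul_assoc] using this
  have hcard : ∀ (A B : Subgroup (P : Subgroup G)), B ≤ Subgroup.normalizer (A : Set (P : Subgroup G)) →
      Nat.card (A ⊔ B : Subgroup (P : Subgroup G)) ≤ Nat.card A * Nat.card B := by
    intro A B hAB
    rw [← Nat.card_prod]
    refine Nat.card_le_card_of_surjective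
      (fun q : A × B => (⟨(q.1 : (P : Subgroup G)) * q.2,
        Subgroup.mul_mem _ (Subgroup.mem_sup_left q.1.2) (Subgroup.mem_sup_right q.2.2)⟩ :
        (A ⊔ B : Subgroup (P : Subgroup G)))) ?_
    rintro ⟨q, hq⟩
    rw [← SetLike.mem_coe, Subgroup.coe_mul_of_right_le_normalizer_left A B hAB] at hq
    obtain ⟨a, ha, b, hb, rfl⟩ := hq
    exact ⟨(⟨a, ha⟩, ⟨b, hb⟩), rfl⟩
  have ho : ∀ a : (P : Subgroup G), Nat.card (Subgroup.zpowers a) ≤ p := fun a => by
    rw [Nat.card_zpowers]
    exact Nat.le_of_dvd hp.pos (orderOf_dvd_of_pow_eq_one (hexp a))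
  have hLc : Nat.card L ≤ p * p := (hcard _ _ (by rw [Subgroup.normalizer_eq_top]; exact le_top)).trans
    (Nat.mul_le_mul (ho c) (ho w))
  set H := L ⊔ Subgroup.zpowers y with hHdef
  have hHc : Nat.card H ≤ p * p * p := (hcard _ _ (Subgroup.zpowers_le.2 hyL)).trans
    (Nat.mul_le_mul hLc (ho y))
  obtain ⟨j, hj⟩ := IsPGroup.iff_card.1 (P.isPGroup'.to_subgroup H)
  have hj3 : j ≤ 3 := by
    rw [hj, show p * p * p = p ^ 3 by ring] at hHc
    exact (Nat.pow_le_pow_iff_right hp.one_lt).1 hHc
  obtain ⟨T, hT, hHT⟩ := Sylow.exists_subgroup_card_pow_prime_le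
    (G := (P : Subgroup G)) (p := p) (n := j) (m := 3) (by rw [hn]; exact pow_dvd_pow p (by omega)) H hj hj3
  have hwT : w ∈ T := hHT (Subgroup.mem_sup_left (Subgroup.mem_sup_right (Subgroup.mem_zpowers w)))
  have hyT : y ∈ T := hHT (Subgroup.mem_sup_right (Subgroup.mem_zpowers y))
  exact hy (congrArg Subtype.val (hall T hT ⟨y, hyT⟩ ⟨w, hwT⟩))

/-- Structure of a noncommutative group of order `p ^ 3`. -/
theorem center_facts {Q : Type*} [Group Q] [Finite Q] [Fact p.Prime] (hcard : Nat.card Q = p ^ 3)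
    (hnc : ∃ a b : Q, a * b ≠ b * a) :
    Nat.card (Subgroup.center Q) = p ∧ ∀ a b : Q, a⁻¹ * (b * a * b⁻¹) ∈ Subgroup.center Q := by
  have hp : p.Prime := Fact.out
  have hQ : IsPGroup p Q := IsPGroup.of_card hcard
  have hncyc : ¬ IsCyclic (Q ⧸ Subgroup.center Q) := by
    intro h
    obtain ⟨a, b, hab⟩ := hnc
    exact hab (commutative_of_cyclic_center_quotient (QuotientGroup.mk' (Subgroup.center Q))
      (by rw [QuotientGroup.ker_mk']) a b)
  haveI : Nontrivial Q := by
    rw [← Finite.one_lt_card_iff_nontrivial, hcard]; exact Nat.one_lt_pow (by omega) hp.one_lt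
  obtain ⟨k, hk0, hk⟩ := (hQ.to_subgroup _).nontrivial_iff_card.1 hQ.center_nontrivial
  have hmul := (Subgroup.center Q).card_eq_card_quotient_mul_card_subgroup
  obtain ⟨j, hj⟩ := IsPGroup.iff_card.1 (hQ.to_quotient (Subgroup.center Q))
  rw [hcard, hk, hj, ← pow_add] at hmul
  have hjk : j + k = 3 := (Nat.pow_right_injective hp.two_le hmul).symm
  have hj2 : 2 ≤ j := by
    by_contra hlt
    apply hncyc
    obtain rfl | rfl : j = 0 ∨ j = 1 := by omega
    · haveI : Subsingleton (Q ⧸ Subgroup.center Q) :=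
        (Nat.card_eq_one_iff_unique.1 (by simpa using hj)).1
      exact isCyclic_of_subsingleton
    · exact isCyclic_of_prime_card (p := p) (by simpa using hj)
  obtain ⟨rfl, rfl⟩ : j = 2 ∧ k = 1 := by omega
  refine ⟨by simpa using hk, fun a b => ?_⟩
  rw [← QuotientGroup.eq_one_iff]
  have := (IsPGroup.commGroupOfCardEqPrimeSq hj).mul_comm (b : Q ⧸ Subgroup.center Q) a
  simp only [QuotientGroup.mk_mul, QuotientGroup.mk_inv]
  rw [show (b : Q ⧸ Subgroup.center Q) * a = a * b from this, mul_inv_cancel_right, inv_mul_cancel]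

end CfsgLib.GrossEq
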