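import Cfsg.Prelude
import Cfsg.Agent.GrossEq.Basic
import Cfsg.Agent.S0215

namespace CfsgLib.GrossEq

open scoped Pointwise

variable {G : Type*} [Group G] {p : ℕ}

/-- An element inverting a nontrivial element of odd order under a product of two root elements. -/
theorem inverter_facts [Fact p.Prime] (hp2 : p ≠ 2) {u v x z : G}
    (hux : u * x * u⁻¹ = x * z) (huz : u * z * u⁻¹ = z) (hvx : v * x * v⁻¹ = x)
    (hvz : v * z * v⁻¹ = z * x⁻¹) (hxz : x * z = z * x) (hxo : orderOf x = p) :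
    (u * v * u) ^ 2 * x * ((u * v * u) ^ 2)⁻¹ = x⁻¹ ∧
      ∀ m : ℕ, Odd m → (((u * v * u) ^ 2) ^ m) * x * (((u * v * u) ^ 2) ^ m)⁻¹ = x⁻¹ ∧
        ((u * v * u) ^ 2) ^ m ≠ 1 := by
  set g := u * v * u with hg
  have hgz : g * z * g⁻¹ = x⁻¹ := by
    calc g * z * g⁻¹ = u * (v * (u * z * u⁻¹) * v⁻¹) * u⁻¹ := by rw [hg]; group
      _ = u * (z * x⁻¹) * u⁻¹ := by rw [huz, hvz]
      _ = (u * z * u⁻¹) * (u * x * u⁻¹)⁻¹ := by group
      _ = z * (x * z)⁻¹ := by rw [huz, hux]
      _ = x⁻¹ := by rw [mul_inv_rev]; group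
  have hgx : g * x * g⁻¹ = z := by
    calc g * x * g⁻¹ = u * (v * (u * x * u⁻¹) * v⁻¹) * u⁻¹ := by rw [hg]; group
      _ = u * (v * (x * z) * v⁻¹) * u⁻¹ := by rw [hux]
      _ = u * ((v * x * v⁻¹) * (v * z * v⁻¹)) * u⁻¹ := by group
      _ = u * (x * z * x⁻¹) * u⁻¹ := by rw [hvx, hvz]; group
      _ = u * z * u⁻¹ := by rw [hxz]; group
      _ = z := huz
  have hh : g ^ 2 * x * (g ^ 2)⁻¹ = x⁻¹ := by
    calc g ^ 2 * x * (g ^ 2)⁻¹ = g * (g * x * g⁻¹) * g⁻¹ := by rw [sq, mul_inv_rev]; simp only [mul_assoc]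
      _ = x⁻¹ := by rw [hgx, hgz]
  refine ⟨hh, fun m hm => ?_⟩
  have hpow : ∀ k : ℕ, (g ^ 2) ^ k * x * ((g ^ 2) ^ k)⁻¹ = if Even k then x else x⁻¹ := by
    intro k
    induction k with
    | zero => simp
    | succ k ih =>
      calc (g ^ 2) ^ (k + 1) * x * ((g ^ 2) ^ (k + 1))⁻¹
          = g ^ 2 * ((g ^ 2) ^ k * x * ((g ^ 2) ^ k)⁻¹) * (g ^ 2)⁻¹ := by rw [pow_succ']; group
        _ = _ := by
          rw [ih]
          by_cases hk : Even k
          · rw [if_pos hk, if_neg (by simp [Nat.even_add_one, hk]), hh]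
          · rw [if_neg hk, if_pos (by simp [Nat.even_add_one, hk])]
            have := congrArg (·⁻¹) hh
            simpa [mul_inv_rev, mul_assoc] using this
  have hm' := hpow m
  rw [if_neg (Nat.not_even_iff_odd.2 hm)] at hm'
  refine ⟨hm', fun h1 => ?_⟩
  rw [h1] at hm'
  have hx2 : x ^ 2 = 1 := by
    have : x = x⁻¹ := by simpa using hm'
    rw [sq]
    nth_rewrite 2 [this]
    exact mul_inv_cancel x
  have hd := orderOf_dvd_of_pow_eq_one hx2
  rw [hxo] at hd
  exact hp2 ((Nat.prime_dvd_prime_iff_eq Fact.out Nat.prime_two).1 hd)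

/-- No group as in the theorem has an extraspecial Sylow subgroup of order `p ^ 3`. -/
theorem cube_impossible [Finite G] [Fact p.Prime] (hp2 : p ≠ 2)
    (hD2 : EqOrderConj 2 G) (hD : EqOrderConj p G) (P : Sylow p G)
    (hexp : ∀ a : (P : Subgroup G), a ^ p = 1) (hnc : ∃ a b : (P : Subgroup G), a * b ≠ b * a) :
    False := by
  have hp : p.Prime := Fact.out
  have hcard := card_of_noncomm hD P hexp hnc
  obtain ⟨hZ, hcom⟩ := center_facts hcard hnc
  have hexpG : ∀ a ∈ (P : Subgroup G), a ^ p = 1 := fun a ha => congrArg Subtype.val (hexp ⟨a, ha⟩)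
  have hord : ∀ a ∈ (P : Subgroup G), a ≠ 1 → orderOf a = p :=
    fun a ha h => orderOf_eq_prime (hexpG a ha) h
  obtain ⟨x, u, hxu⟩ := hnc
  set z : (P : Subgroup G) := x⁻¹ * (u * x * u⁻¹) with hzdef
  have hzc : z ∈ Subgroup.center (P : Subgroup G) := hcom x u
  have hz1 : z ≠ 1 := by
    intro h
    apply hxu
    have h1 : x = u * x * u⁻¹ := inv_mul_eq_one.1 h
    calc x * u = (u * x * u⁻¹) * u := by rw [← h1]
      _ = u * x := by group
  have hx1 : (x : G) ≠ 1 := fun h => hxu (by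
    rw [show x = 1 from Subtype.ext h]; simp)
  have hxo : orderOf (x : G) = p := hord _ x.2 hx1
  have hzo : orderOf (z : G) = p := hord _ z.2 (fun h => hz1 (Subtype.ext h))
  have hzall : ∀ a ∈ Subgroup.center (P : Subgroup G), ∃ i : ℤ, a = z ^ i := by
    intro a ha
    have heq : Subgroup.zpowers z = Subgroup.center (P : Subgroup G) :=
      Subgroup.eq_of_le_of_card_ge (Subgroup.zpowers_le.2 hzc) (by
        rw [hZ, Nat.card_zpowers, ← Subgroup.orderOf_coe, hzo])
    rw [← heq] at ha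
    obtain ⟨i, hi⟩ := Subgroup.mem_zpowers_iff.1 ha
    exact ⟨i, hi.symm⟩
  have hxz : (x : G) * z = z * x := congrArg Subtype.val (Subgroup.mem_center_iff.1 hzc x)
  have hux : (u : G) * x * (u : G)⁻¹ = x * z := by
    have : u * x * u⁻¹ = x * z := by rw [hzdef, mul_inv_cancel_left]
    exact congrArg Subtype.val this
  have huz : (u : G) * z * (u : G)⁻¹ = z := by
    have : u * z * u⁻¹ = z := by rw [Subgroup.mem_center_iff.1 hzc u, mul_inv_cancel_right]
    exact congrArg Subtype.val this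
  -- a Sylow subgroup with centre generated by `x`
  have hzp : ∀ a : G, orderOf a = p → IsPGroup p (Subgroup.zpowers a) := fun a ha =>
    IsPGroup.of_card (n := 1) (by rw [Nat.card_zpowers, ha, pow_one])
  obtain ⟨g, hg⟩ := hD (Subgroup.zpowers (z : G)) (Subgroup.zpowers (x : G)) (hzp _ hzo) (hzp _ hxo)
    (by rw [Nat.card_zpowers, Nat.card_zpowers, hzo, hxo])
  obtain ⟨a, ha, hag⟩ : ∃ a ∈ Subgroup.zpowers (z : G), g * a * g⁻¹ = x := by
    have : (x : G) ∈ Subgroup.zpowers (x : G) := Subgroup.mem_zpowers _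
    rw [hg] at this
    exact this
  set C := Subgroup.centralizer ({(x : G)} : Set G) with hCdef
  have hgP : ((g • P : Sylow p G) : Subgroup G) ≤ C := by
    intro b hb
    rw [Sylow.coe_subgroup_smul, Subgroup.mem_pointwise_smul_iff_inv_smul_mem] at hb
    obtain ⟨i, rfl⟩ := Subgroup.mem_zpowers_iff.1 ha
    have hb' : g⁻¹ * b * g ∈ (P : Subgroup G) := by simpa [MulAut.smul_def] using hb
    have h1 : Commute (g⁻¹ * b * g) ((z : G) ^ i) :=
      Commute.zpow_right (show Commute (g⁻¹ * b * g) (z : G) from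
        congrArg Subtype.val (Subgroup.mem_center_iff.1 hzc ⟨_, hb'⟩)) i
    rw [Subgroup.mem_centralizer_singleton_iff, ← hag]
    calc b * (g * (z : G) ^ i * g⁻¹) = g * ((g⁻¹ * b * g) * (z : G) ^ i) * g⁻¹ := by group
      _ = g * ((z : G) ^ i * (g⁻¹ * b * g)) * g⁻¹ := by rw [h1.eq]
      _ = g * (z : G) ^ i * g⁻¹ * b := by group
  have hzC : (z : G) ∈ C := Subgroup.mem_centralizer_singleton_iff.2 hxz.symm
  have hzCo : orderOf (⟨(z : G), hzC⟩ : C) = p := by rw [← Subgroup.orderOf_coe]; exact hzo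
  obtain ⟨S, hS⟩ := (IsPGroup.of_card (n := 1) (show Nat.card (Subgroup.zpowers (⟨(z : G), hzC⟩ : C)) = p ^ 1 by
    rw [Nat.card_zpowers, hzCo, pow_one])).exists_le_sylow
  obtain ⟨c, hc⟩ := MulAction.exists_smul_eq C ((g • P).subtype hgP) S
  have hzS : (⟨(z : G), hzC⟩ : C) ∈ (S : Subgroup C) := hS (Subgroup.mem_zpowers _)
  rw [← hc, Sylow.coe_subgroup_smul, Subgroup.mem_pointwise_smul_iff_inv_smul_mem,
    Sylow.coe_subtype, Subgroup.mem_subgroupOf] at hzS
  have hzgP : (c : G)⁻¹ * z * c ∈ ((g • P : Sylow p G) : Subgroup G) := by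
    simpa [MulAut.smul_def] using hzS
  rw [Sylow.coe_subgroup_smul, Subgroup.mem_pointwise_smul_iff_inv_smul_mem] at hzgP
  set h := (c : G) * g with hhdef
  have hz2 : h⁻¹ * z * h ∈ (P : Subgroup G) := by
    rw [hhdef]
    simpa [MulAut.smul_def, mul_inv_rev, mul_assoc] using hzgP
  obtain ⟨i, hi⟩ := Subgroup.mem_zpowers_iff.1 ha
  have hcx : (c : G) * x = x * c := Subgroup.mem_centralizer_singleton_iff.1 c.2
  have hhx : h * (z : G) ^ i * h⁻¹ = x := by
    rw [hi, hhdef]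
    calc (c : G) * g * a * ((c : G) * g)⁻¹ = c * (g * a * g⁻¹) * (c : G)⁻¹ := by group
      _ = x := by rw [hag, hcx, mul_inv_cancel_right]
  -- the second transvection
  set z₂ : (P : Subgroup G) := ⟨h⁻¹ * z * h, hz2⟩ with hz2def
  have hzx : ∀ j : ℤ, (z : G) ≠ (x : G) ^ j := by
    intro j hj
    have hxc : x ∈ Subgroup.center (P : Subgroup G) := by
      have hzx' : z = x ^ j := Subtype.ext (by simpa using hj)
      have hz' : Subgroup.zpowers z ≤ Subgroup.zpowers x :=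
        Subgroup.zpowers_le.2 (hzx' ▸ Subgroup.zpow_mem_zpowers x j)
      have heq := Subgroup.eq_of_le_of_card_ge hz' (by
        rw [Nat.card_zpowers, Nat.card_zpowers, ← Subgroup.orderOf_coe, ← Subgroup.orderOf_coe, hxo, hzo])
      exact (Subgroup.zpowers_le.2 hzc) (heq ▸ Subgroup.mem_zpowers x)
    exact hxu ((Subgroup.mem_center_iff.1 hxc u).symm)
  have hzi : Subgroup.zpowers (z ^ i) = Subgroup.center (P : Subgroup G) := by
    apply Subgroup.eq_of_le_of_card_ge (Subgroup.zpowers_le.2 (Subgroup.zpow_mem _ hzc i))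
    rw [hZ, Nat.card_zpowers, ← Subgroup.orderOf_coe]
    have : orderOf (((z ^ i : (P : Subgroup G))) : G) = p := by
      refine Eq.trans ?_ hxo
      rw [← hhx]
      exact (orderOf_injective (MulAut.conj h).toMonoidHom (MulAut.conj h).injective _).symm
    rw [this]
  have hz2c : z₂ ∉ Subgroup.center (P : Subgroup G) := by
    intro h2
    rw [← hzi] at h2
    obtain ⟨j, hj⟩ := Subgroup.mem_zpowers_iff.1 h2
    apply hzx j
    have hj' : ((z : G) ^ i) ^ j = h⁻¹ * z * h := by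
      simpa [hz2def] using congrArg Subtype.val hj
    rw [← hhx, conj_zpow, hj']
    group
  obtain ⟨u₂, hu2⟩ : ∃ u₂ : (P : Subgroup G), u₂ * z₂ ≠ z₂ * u₂ := by
    by_contra hcon
    push_neg at hcon
    exact hz2c (Subgroup.mem_center_iff.2 hcon)
  have hc2 := hcom z₂ u₂
  rw [← hzi] at hc2
  obtain ⟨j, hj⟩ := Subgroup.mem_zpowers_iff.1 hc2
  set w := h * (u₂ : G) * h⁻¹ with hwdef
  have hwx : w * x * w⁻¹ = x := by
    have h1 : u₂ * z ^ i * u₂⁻¹ = z ^ i := by
      rw [Subgroup.mem_center_iff.1 (Subgroup.zpow_mem _ hzc i) u₂, mul_inv_cancel_right]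
    have h1' : (u₂ : G) * (z : G) ^ i * (u₂ : G)⁻¹ = (z : G) ^ i := by
      simpa using congrArg Subtype.val h1
    rw [← hhx, hwdef]
    calc h * (u₂ : G) * h⁻¹ * (h * (z : G) ^ i * h⁻¹) * (h * (u₂ : G) * h⁻¹)⁻¹
        = h * ((u₂ : G) * (z : G) ^ i * (u₂ : G)⁻¹) * h⁻¹ := by group
      _ = _ := by rw [h1']
  have hwz : w * z * w⁻¹ = z * (x : G) ^ j := by
    have h1 : u₂ * z₂ * u₂⁻¹ = z₂ * (z ^ i) ^ j := by rw [hj, mul_inv_cancel_left]
    have h1' : (u₂ : G) * (h⁻¹ * z * h) * (u₂ : G)⁻¹ = (h⁻¹ * z * h) * ((z : G) ^ i) ^ j := by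
      simpa [hz2def] using congrArg Subtype.val h1
    rw [← hhx, conj_zpow, hwdef]
    calc h * (u₂ : G) * h⁻¹ * (z : G) * (h * (u₂ : G) * h⁻¹)⁻¹
        = h * ((u₂ : G) * (h⁻¹ * z * h) * (u₂ : G)⁻¹) * h⁻¹ := by group
      _ = _ := by rw [h1']; group
  have hj0 : (x : G) ^ j ≠ 1 := by
    intro h0
    rw [h0, mul_one] at hwz
    apply hu2
    have : (u₂ : G) * (h⁻¹ * z * h) = (h⁻¹ * z * h) * (u₂ : G) := by
      calc (u₂ : G) * (h⁻¹ * z * h) = h⁻¹ * (w * z * w⁻¹) * h * (u₂ : G) := by rw [hwdef]; group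
        _ = _ := by rw [hwz]
    exact Subtype.ext this
  obtain ⟨k, hk⟩ : ∃ k : ℕ, ((x : G) ^ j) ^ k = (x : G)⁻¹ := by
    have hle : Subgroup.zpowers ((x : G) ^ j) = Subgroup.zpowers (x : G) :=
      Subgroup.eq_of_le_of_card_ge (Subgroup.zpowers_le.2 (Subgroup.zpow_mem_zpowers _ _)) (by
        rw [Nat.card_zpowers, Nat.card_zpowers, hxo,
          orderOf_eq_prime (by rw [← zpow_natCast, ← zpow_mul, mul_comm, zpow_mul, zpow_natCast,
            hexpG _ x.2, one_zpow]) hj0])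
    have : (x : G)⁻¹ ∈ Subgroup.zpowers ((x : G) ^ j) := hle ▸ (Subgroup.inv_mem _ (Subgroup.mem_zpowers _))
    rw [← mem_powers_iff_mem_zpowers, Submonoid.mem_powers_iff] at this
    exact this
  set v := w ^ k with hvdef
  have hvpow : ∀ n : ℕ, w ^ n * x * (w ^ n)⁻¹ = x ∧ w ^ n * z * (w ^ n)⁻¹ = z * ((x : G) ^ j) ^ n := by
    intro n
    induction n with
    | zero => simp
    | succ n ih =>
      have hcx' : w ^ n * x * (w ^ n)⁻¹ = x := ih.1
      have hcxj : w ^ n * (x : G) ^ j * (w ^ n)⁻¹ = (x : G) ^ j := by rw [← conj_zpow, hcx']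
      constructor
      · calc w ^ (n + 1) * x * (w ^ (n + 1))⁻¹ = w ^ n * (w * x * w⁻¹) * (w ^ n)⁻¹ := by
              rw [pow_succ]; group
          _ = _ := by rw [hwx, hcx']
      · calc w ^ (n + 1) * z * (w ^ (n + 1))⁻¹ = w ^ n * (w * z * w⁻¹) * (w ^ n)⁻¹ := by
              rw [pow_succ]; group
          _ = (w ^ n * z * (w ^ n)⁻¹) * (w ^ n * (x : G) ^ j * (w ^ n)⁻¹) := by rw [hwz]; group
          _ = _ := by rw [ih.2, hcxj, mul_assoc, ← pow_succ]
  obtain ⟨hvx, hvz⟩ := hvpow k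
  rw [hk, ← hvdef] at hvz
  rw [← hvdef] at hvx
  have hvp : v ^ p = 1 := by
    have hu2p : (u₂ : G) ^ p = 1 := hexpG _ u₂.2
    rw [hvdef, pow_right_comm, hwdef, conj_pow, hu2p]
    simp
  have hup : (u : G) ^ p = 1 := hexpG _ u.2
  obtain ⟨hinv, hpow⟩ := inverter_facts hp2 hux huz hvx hvz hxz hxo
  set h₀ := ((u : G) * v * u) ^ 2 with hh0
  -- a normal subgroup of odd order containing the root elements leads to a contradiction
  have hodd : ∀ N : Subgroup G, (u : G) ∈ N → v ∈ N → Odd (Nat.card N) → False := by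
    intro N huN hvN hN
    have hmem : h₀ ∈ N := N.pow_mem (N.mul_mem (N.mul_mem huN hvN) huN) 2
    have ho : Odd (orderOf h₀) := hN.of_dvd_nat (by
      rw [← Subgroup.orderOf_mk h₀ hmem]; exact orderOf_dvd_natCard _)
    exact (hpow _ ho).2 (pow_orderOf_eq_one h₀)
  -- a two-element inverting `x`
  haveI : Fact (Nat.Prime 2) := ⟨Nat.prime_two⟩
  obtain ⟨e, m, hm, hem⟩ : ∃ e m : ℕ, Odd m ∧ orderOf ((u : G) * v * u) = 2 ^ e * m := by
    obtain ⟨e, m, hm, h⟩ := Nat.exists_eq_two_pow_mul_odd (n := orderOf ((u : G) * v * u))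
      (orderOf_pos _).ne'
    exact ⟨e, m, hm, h⟩
  set y := ((u : G) * v * u) ^ m with hy
  have hyp : IsPGroup 2 (Subgroup.zpowers y) := by
    refine IsPGroup.of_card (n := e) ?_
    rw [Nat.card_zpowers, hy, orderOf_pow_of_dvd (by rcases hm with ⟨r, rfl⟩; omega) (hem ▸ dvd_mul_left _ _), hem,
      Nat.mul_div_cancel _ (by rcases hm with ⟨r, rfl⟩; omega)]
  obtain ⟨S2, hS2⟩ := hyp.exists_le_sylow
  have hyS : y ∈ (S2 : Subgroup G) := hS2 (Subgroup.mem_zpowers y)
  have hy2 : y ^ 2 = h₀ ^ m := by rw [hy, hh0, pow_right_comm]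
  rcases cyclic_or_exponent_or_quaternion hD2 S2 with hcyc | hexp2 | ⟨-, ⟨eQ⟩⟩
  · -- cyclic: normal 2-complement
    have heven : 2 ∣ Nat.card G := by
      by_contra hodd2
      refine hodd ⊤ trivial trivial ?_
      rw [Subgroup.card_top]
      exact Nat.odd_iff.2 (by omega)
    have hmin : (Nat.card G).minFac = 2 := (Nat.minFac_eq_two_iff _).2 heven
    let f := MonoidHom.transferSylow S2 (IsCyclic.normalizer_le_centralizer hmin hcyc)
    have hker : ∀ a : G, a ^ p = 1 → a ∈ f.ker := by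
      intro a ha
      rw [MonoidHom.mem_ker]
      have h1 : (f a) ^ p = 1 := by rw [← map_pow, ha, map_one]
      obtain ⟨s, hs⟩ := IsPGroup.iff_orderOf.1 S2.isPGroup' (f a)
      have hd := orderOf_dvd_of_pow_eq_one h1
      rw [hs] at hd
      rcases Nat.eq_zero_or_pos s with rfl | hs0
      · exact orderOf_eq_one_iff.1 (by simpa using hs)
      · exact absurd ((Nat.prime_dvd_prime_iff_eq Nat.prime_two hp).1
          ((dvd_pow_self 2 hs0.ne').trans hd)).symm hp2
    refine hodd f.ker (hker _ hup) (hker _ hvp) (Nat.odd_iff.2 ?_)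
    have := MonoidHom.not_dvd_card_ker_transferSylow S2 (IsCyclic.normalizer_le_centralizer hmin hcyc)
    change ¬ 2 ∣ Nat.card f.ker at this
    omega
  · refine (hpow m hm).2 ?_
    rw [← hy2]
    exact congrArg Subtype.val (hexp2 ⟨y, hyS⟩)
  · -- quaternion: isolated involution
    have hy4 : y ^ 4 = 1 := by
      have h4 : ∀ q : QuaternionGroup 2, q ^ 4 = 1 := by decide
      exact congrArg Subtype.val (pow_eq_one_of_iso eQ.symm h4 ⟨y, hyS⟩)
    have hzo2 : orderOf (y ^ 2) = 2 := by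
      refine orderOf_eq_prime (by rw [← pow_mul]; exact hy4) ?_
      rw [hy2]; exact (hpow m hm).2
    have huniq : ∀ a b : G, a ∈ (S2 : Subgroup G) → b ∈ (S2 : Subgroup G) → orderOf a = 2 →
        orderOf b = 2 → a = b := by
      intro a b ha hb hao hbo
      have hQ : ∀ q r : QuaternionGroup 2, q * q = 1 → q ≠ 1 → r * r = 1 → r ≠ 1 → q = r := by decide
      have hf : ∀ c (hc : c ∈ (S2 : Subgroup G)), orderOf c = 2 →
          eQ ⟨c, hc⟩ * eQ ⟨c, hc⟩ = 1 ∧ eQ ⟨c, hc⟩ ≠ 1 := by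
        intro c hc hco
        refine ⟨?_, ?_⟩
        · rw [← map_mul, MulEquiv.map_eq_one_iff]
          apply Subtype.ext
          show c * c = 1
          rw [← sq, ← hco, pow_orderOf_eq_one]
        · rw [ne_eq, MulEquiv.map_eq_one_iff]
          intro h1
          have : c = 1 := congrArg Subtype.val h1
          rw [this, orderOf_one] at hco
          omega
      exact congrArg Subtype.val (eQ.injective
        (hQ _ _ (hf a ha hao).1 (hf a ha hao).2 (hf b hb hbo).1 (hf b hb hbo).2))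
    obtain ⟨N, hN, hNodd, hcommN⟩ := Cfsg.Agent.S0215.result S2 (y ^ 2) hzo2
      ((S2 : Subgroup G).pow_mem hyS 2) (fun q hq => huniq _ _ hq ((S2 : Subgroup G).pow_mem hyS 2)
        ((orderOf_injective (MulAut.conj q).toMonoidHom (MulAut.conj q).injective _).trans hzo2) hzo2)
    haveI := hN
    have hx2 : (x : G) ^ 2 ∈ N := by
      have h1 := hcommN x
      rw [hy2, (hpow m hm).1] at h1
      have := N.inv_mem h1
      simpa [sq, mul_inv_rev] using this
    have hxN : (x : G) ∈ N := by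
      have hodd' : Odd (orderOf (x : G)) := by rw [hxo]; exact hp.odd_of_ne_two hp2
      obtain ⟨r, hr⟩ := hodd'
      have hxx : (x : G) = ((x : G) ^ 2) ^ (r + 1) := by
        rw [← pow_mul, show 2 * (r + 1) = orderOf (x : G) + 1 by omega, pow_succ, pow_orderOf_eq_one, one_mul]
      rw [hxx]; exact N.pow_mem hx2 _
    have hall : ∀ b : G, b ^ p = 1 → b ∈ N := by
      intro b hb
      by_cases hb1 : b = 1
      · rw [hb1]; exact N.one_mem
      have hbo : orderOf b = p := orderOf_eq_prime hb hb1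
      obtain ⟨q, hq⟩ := hD (Subgroup.zpowers (x : G)) (Subgroup.zpowers b) (hzp _ hxo) (hzp _ hbo)
        (by rw [Nat.card_zpowers, Nat.card_zpowers, hxo, hbo])
      have : b ∈ Subgroup.zpowers b := Subgroup.mem_zpowers b
      rw [hq] at this
      obtain ⟨d, hd, rfl⟩ := this
      exact hN.conj_mem d ((Subgroup.zpowers_le.2 hxN) hd) q
    exact hodd N (hall _ hup) (hall _ hvp) hNodd

end CfsgLib.GrossEq
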